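import Cfsg.Agent.Lib.H22.J2Spec.Main

set_option autoImplicit false
set_option maxRecDepth 100000

/-! # Centralisers in the Hall–Janko group by enumeration of a point stabiliser

Elements of helper17's presented group `G` are compared on the base `0, 36, 1, 2` of the action on
100 points.  An element commuting with `y` permutes the fixed points of a power `w` of `y` that
fixes the base point; so it lies in one of finitely many cosets `t_f · H` of the point stabiliser
`H = U · K`, which the kernel enumerates. -/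

namespace Cfsg.Agent.Lib.H22.J2Out

open Cfsg.Agent.Lib.H17.CosetCert Cfsg.Agent.Lib.H17.J2P100 Cfsg.Agent.Lib.H17.J2PGlue
  Cfsg.Agent.Lib.H17.J2Deg100 Cfsg.Agent.Lib.H22.J2Spec

theorem rep_one : Rep (1 : G) [] := by
  intro i
  rw [map_one, Equiv.Perm.one_apply, applyT_nil]

theorem el_append (L1 L2 : List ℕ) : el (L1 ++ L2) = el L2 * el L1 := by
  unfold el
  rw [List.reverse_append, List.map_append, List.prod_append]

theorem el_single (x : ℕ) : el [x] = PresentedGroup.of (gen x) := by
  unfold el
  simp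

theorem el_flatten_replicate (L : List ℕ) (i : ℕ) :
    el ((List.replicate i L).flatten) = (el L) ^ i := by
  induction i with
  | zero => simp [el_nil]
  | succ i ih => rw [List.replicate_succ, List.flatten_cons, el_append, ih, pow_succ]

theorem rep_prod (ws : List (List ℕ)) :
    Rep ((ws.map el).prod) ((ws.reverse.map tw).flatten) := by
  induction ws with
  | nil => simpa using rep_one
  | cons w ws ih =>
    rw [List.map_cons, List.prod_cons, List.reverse_cons, List.map_append, List.flatten_append]
    have := (rep_el w).mul ih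
    simpa using this

theorem Rep.pow_replicate {g : G} {T : ℕ} (h : Rep g [T]) (k : ℕ) :
    Rep (g ^ k) (List.replicate k T) := by
  induction k with
  | zero => simpa using rep_one
  | succ k ih =>
    rw [pow_succ, List.replicate_succ]
    exact ih.mul h

theorem beq_of_eq {a b : ℕ} (h : a = b) : Nat.beq a b = true := by
  subst h
  exact Nat.beq_refl a

/-- the two words of tables agree on the base -/
noncomputable def eqB (ts us : List ℕ) : Bool :=
  Nat.beq (applyT 7 128 ts 0) (applyT 7 128 us 0) &&
    (Nat.beq (applyT 7 128 ts 36) (applyT 7 128 us 36) &&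
      (Nat.beq (applyT 7 128 ts 1) (applyT 7 128 us 1) &&
        Nat.beq (applyT 7 128 ts 2) (applyT 7 128 us 2)))

theorem eq_of_eqB {g h : G} {ts us : List ℕ} (hg : Rep g ts) (hh : Rep h us)
    (he : eqB ts us = true) : g = h := by
  unfold eqB at he
  rw [Bool.and_eq_true, Bool.and_eq_true, Bool.and_eq_true] at he
  obtain ⟨h0, h36, h1, h2⟩ := he
  have key : ∀ (b : ℕ) (hb : b < 100), applyT 7 128 ts b = applyT 7 128 us b →
      φ (h⁻¹ * g) ⟨b, hb⟩ = ⟨b, hb⟩ := by
    intro b hb e
    rw [map_mul, map_inv, Equiv.Perm.mul_apply]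
    have : φ g ⟨b, hb⟩ = φ h ⟨b, hb⟩ := Fin.ext (by rw [hg, hh]; exact e)
    rw [this]
    simp
  have := isBase (h⁻¹ * g) (key 0 _ (Nat.eq_of_beq_eq_true h0))
    (key 36 _ (Nat.eq_of_beq_eq_true h36)) (key 1 _ (Nat.eq_of_beq_eq_true h1))
    (key 2 _ (Nat.eq_of_beq_eq_true h2))
  exact (inv_mul_eq_one.mp this).symm

theorem eqB_of_rep {g : G} {ts us : List ℕ} (hg : Rep g ts) (hh : Rep g us) :
    eqB ts us = true := by
  have key : ∀ (b : ℕ) (hb : b < 100), applyT 7 128 ts b = applyT 7 128 us b := by
    intro b hb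
    have h1 := hg ⟨b, hb⟩
    have h2 := hh ⟨b, hb⟩
    rw [h1] at h2
    exact h2
  unfold eqB
  rw [Bool.and_eq_true, Bool.and_eq_true, Bool.and_eq_true]
  exact ⟨beq_of_eq (key 0 (by norm_num)), beq_of_eq (key 36 (by norm_num)),
    beq_of_eq (key 1 (by norm_num)), beq_of_eq (key 2 (by norm_num))⟩

theorem ne_of_eqB_false {g h : G} {ts us : List ℕ} (hg : Rep g ts) (hh : Rep h us)
    (he : eqB ts us = false) : g ≠ h := by
  intro hgh
  subst hgh
  rw [eqB_of_rep hg hh] at he
  exact absurd he (by simp)

/-- every fixed point `< n` of the table lies in the list -/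
noncomputable def fixChk (T : ℕ) (Fs : List ℕ) (n : ℕ) : Bool :=
  Nat.rec (motive := fun _ => Bool) true
    (fun i ih => cond (Nat.beq (lk 7 128 T i) i)
      (cond (Fs.any fun f => Nat.beq f i) ih false) ih) n

theorem fixChk_sound (T : ℕ) (Fs : List ℕ) (n : ℕ) (h : fixChk T Fs n = true) :
    ∀ i < n, lk 7 128 T i = i → i ∈ Fs := by
  induction n with
  | zero => intro i hi; omega
  | succ n ih =>
    have h' : cond (Nat.beq (lk 7 128 T n) n)
        (cond (Fs.any fun f => Nat.beq f n) (fixChk T Fs n) false) (fixChk T Fs n) = true := h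
    have hrest : fixChk T Fs n = true := by
      cases hb : Nat.beq (lk 7 128 T n) n with
      | false => rw [hb] at h'; exact h'
      | true =>
        rw [hb] at h'
        cases ha : (Fs.any fun f => Nat.beq f n) with
        | false => rw [ha] at h'; exact absurd h' (by simp)
        | true => rw [ha] at h'; exact h'
    intro i hi hfix
    rcases Nat.lt_succ_iff_lt_or_eq.mp hi with hlt | rfl
    · exact ih hrest i hlt hfix
    · rw [beq_of_eq hfix] at h'
      cases ha : (Fs.any fun f => Nat.beq f i) with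
      | false => rw [ha] at h'; exact absurd h' (by simp)
      | true =>
        obtain ⟨f, hf, hfi⟩ := List.any_eq_true.mp ha
        rw [← Nat.eq_of_beq_eq_true hfi]
        exact hf

/-- if the element of `ts` commutes with `Ty` on the base (and is an involution on the base when
`inv`), its base images are those of a table of `Ls` -/
noncomputable def centChk (inv : Bool) (ts : List ℕ) (Ty : ℕ) (Ls : List ℕ) : Bool :=
  cond (eqB (Ty :: ts) (ts ++ [Ty]) && (cond inv (eqB (ts ++ ts) []) true))
    (Ls.any fun T => eqB ts [T]) true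

/-- the check for all elements of the coset of the point stabiliser given by `Tf` -/
noncomputable def centAll (inv : Bool) (Tf Ty : ℕ) (Ls : List ℕ) : Bool :=
  Ul.all fun u => Kl.all fun k => centChk inv [k.1, u.1, Tf] Ty Ls

/-- **Centralisers by enumeration.** -/
theorem cent_cover (inv : Bool) {y w : G} {Ty Tw : ℕ} (hy : Rep y [Ty]) (hw : Rep w [Tw])
    (hyw : ∀ x : G, x * y = y * x → x * w = w * x) (hw0 : lk 7 128 Tw 0 = 0)
    (F : List (ℕ × List ℕ)) (hF : F.all (fun p => wordTab (tw p.2) p.1 100) = true)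
    (hfix : fixChk Tw (F.map fun p => lk 7 128 p.1 0) 100 = true)
    (L : List (ℕ × List ℕ)) (hL : L.all (fun p => wordTab (tw p.2) p.1 100) = true)
    (hchk : F.all (fun p => centAll inv p.1 Ty (L.map Prod.fst)) = true)
    (x : G) (hx : x * y = y * x) (hinv : inv = true → x * x = 1) : ∃ p ∈ L, x = el p.2 := by
  have hz0 : ((z : Fin 100) : ℕ) = 0 := rfl
  have hxw := hyw x hx
  have hwz : φ w z = z := Fin.ext (by rw [hw.apply_single, hz0]; exact hw0)
  have hfx : lk 7 128 Tw ((φ x z : Fin 100) : ℕ) = ((φ x z : Fin 100) : ℕ) := by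
    rw [← hw.apply_single]
    have : φ w (φ x z) = φ x z := by
      have h1 : φ (w * x) z = φ (x * w) z := by rw [hxw]
      rw [map_mul, map_mul, Equiv.Perm.mul_apply, Equiv.Perm.mul_apply, hwz] at h1
      exact h1
    rw [this]
  have hmem := fixChk_sound _ _ _ hfix _ (φ x z).2 hfx
  obtain ⟨p, hp, hpz⟩ := List.mem_map.mp hmem
  have hpw := List.all_eq_true.mp hF p hp
  have ht : Rep (el p.2) [p.1] := (rep_el _).single (wordTab_sound _ _ _ hpw)
  have htx : φ (el p.2) z = φ x z := Fin.ext (by rw [ht.apply_single, hz0]; exact hpz)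
  have hh : φ ((el p.2)⁻¹ * x) z = z := by
    rw [map_mul, map_inv, Equiv.Perm.mul_apply, ← htx]
    simp
  obtain ⟨j, hj, m, hm, hjm⟩ := stab_cover _ hh
  have hxe : x = el p.2 * (el (Uw j) * el (Kw m)) := by
    rw [← hjm]
    group
  have hrep : Rep x [Kt m, Ut j, p.1] := by
    rw [hxe]
    exact ht.mul ((rep_U j hj).1.mul (rep_K m hm).1)
  have hc1 := List.all_eq_true.mp hchk p hp
  unfold centAll at hc1
  have hmU : Ul.getD j (0, []) ∈ Ul := mem_getD _ _ _ (by rw [Ul_length]; exact hj)
  have hmK : Kl.getD m (0, []) ∈ Kl := mem_getD _ _ _ (by rw [Kl_length]; exact hm)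
  have hc2 := List.all_eq_true.mp (List.all_eq_true.mp hc1 _ hmU) _ hmK
  change centChk inv [Kt m, Ut j, p.1] Ty (L.map Prod.fst) = true at hc2
  unfold centChk at hc2
  have hcomm : eqB (Ty :: [Kt m, Ut j, p.1]) ([Kt m, Ut j, p.1] ++ [Ty]) = true := by
    have h1 : Rep (x * y) (Ty :: [Kt m, Ut j, p.1]) := hrep.mul hy
    have h2 : Rep (x * y) ([Kt m, Ut j, p.1] ++ [Ty]) := by
      rw [hx]
      exact hy.mul hrep
    exact eqB_of_rep h1 h2
  have hinvB : (cond inv (eqB ([Kt m, Ut j, p.1] ++ [Kt m, Ut j, p.1]) []) true) = true := by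
    rcases Bool.eq_false_or_eq_true inv with hi | hi
    · have h1 : Rep (x * x) ([Kt m, Ut j, p.1] ++ [Kt m, Ut j, p.1]) := hrep.mul hrep
      rw [hinv hi] at h1
      rw [hi]
      exact eqB_of_rep h1 rep_one
    · rw [hi]
      rfl
  rw [hcomm, hinvB] at hc2
  simp only [Bool.and_self, cond_true] at hc2
  obtain ⟨T, hT, hTe⟩ := List.any_eq_true.mp hc2
  obtain ⟨q, hq, rfl⟩ := List.mem_map.mp hT
  have hqw := List.all_eq_true.mp hL q hq
  have hq' : Rep (el q.2) [q.1] := (rep_el _).single (wordTab_sound _ _ _ hqw)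
  exact ⟨q, hq, eq_of_eqB hrep hq' hTe⟩

end Cfsg.Agent.Lib.H22.J2Out
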