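import Cfsg.Agent.Lib.H22.J2Out.Data

set_option autoImplicit false
set_option maxRecDepth 100000

/-! # Outer automorphisms of the Hall–Janko group: the kernel checks -/

namespace Cfsg.Agent.Lib.H22.J2Out

open Cfsg.Agent.Lib.H17.CosetCert Cfsg.Agent.Lib.H17.J2P100 Cfsg.Agent.Lib.H17.J2PGlue
  Cfsg.Agent.Lib.H17.J2Deg100 Cfsg.Agent.Lib.H22.J2Spec

/-- the powers of `s`: (table, word) -/
def Lsl : List (ℕ × List ℕ) :=
  (List.range 7).map fun i => (Tspow.getD i 0, (List.replicate i ws).flatten)

/-- the involutions commuting with `d`, and the identity: (table, word) -/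
def Ldl : List (ℕ × List ℕ) :=
  [(Tspow.getD 0 0, []), (Ttt, wt), (Ttp, wtp), (Td3, (List.replicate 3 wd).flatten)]

/-- the words of `s`, `d`, `t` -/
def sdtw : ℕ → List ℕ
  | 0 => ws
  | 1 => wd
  | _ => wt

/-- the image of a letter under the outer automorphism -/
def θl (x : ℕ) : List ℕ := θw (idx (gen x))

theorem s_tab : wordTab (tw ws) Ts 100 = true := by decide +kernel

theorem d_tab : wordTab (tw wd) Td 100 = true := by decide +kernel

theorem t_tab : wordTab (tw wt) Ttt 100 = true := by decide +kernel

theorem tp_tab : wordTab (tw wtp) Ttp 100 = true := by decide +kernel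

theorem dd_tab : wordTab ([Td] ++ [Td]) Tdd 100 = true := by decide +kernel

theorem Ts0 : lk 7 128 Ts 0 = 0 := by decide +kernel

theorem Tdd0 : lk 7 128 Tdd 0 = 0 := by decide +kernel

theorem Fsl_ok : Fsl.all (fun p => wordTab (tw p.2) p.1 100) = true := by decide +kernel

theorem Fdl_ok : Fdl.all (fun p => wordTab (tw p.2) p.1 100) = true := by decide +kernel

theorem fix_s : fixChk Ts (Fsl.map fun p => lk 7 128 p.1 0) 100 = true := by decide +kernel

theorem fix_d : fixChk Tdd (Fdl.map fun p => lk 7 128 p.1 0) 100 = true := by decide +kernel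

theorem Lsl_ok : Lsl.all (fun p => wordTab (tw p.2) p.1 100) = true := by decide +kernel

theorem Ldl_ok : Ldl.all (fun p => wordTab (tw p.2) p.1 100) = true := by decide +kernel

theorem cent_s_chk : Fsl.all (fun p => centAll false p.1 Ts (Lsl.map Prod.fst)) = true := by
  decide +kernel

theorem cent_d_chk : Fdl.all (fun p => centAll true p.1 Td (Ldl.map Prod.fst)) = true := by
  decide +kernel

theorem s_pow7 : eqB (List.replicate 7 Ts) [] = true := by decide +kernel

theorem s_ne : eqB [Ts] [] = false := by decide +kernel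

theorem ds_rel : eqB ([Ts] ++ [Td]) ([Td] ++ ([Ts] ++ ([Ts] ++ [Ts]))) = true := by decide +kernel

theorem td_comm : eqB ([Td] ++ [Ttt]) ([Ttt] ++ [Td]) = true := by decide +kernel

theorem t_sq : eqB ([Ttt] ++ [Ttt]) [] = true := by decide +kernel

theorem t_ne_one_chk : eqB [Ttt] [] = false := by decide +kernel

theorem t_ne_tp_chk : eqB [Ttt] [Ttp] = false := by decide +kernel

theorem t_ne_d3_chk : eqB [Ttt] (List.replicate 3 Td) = false := by decide +kernel

theorem spow_d_chk : (List.range 7).all (fun i => Nat.beq i 0 ||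
    !(eqB (Td :: [Tspow.getD i 0]) ([Tspow.getD i 0] ++ [Td]))) = true := by decide +kernel

theorem θ_inv_chk : (List.range 5).all (fun x => eqB (tw (θw x) ++ tw (θw x)) []) = true := by
  decide +kernel

theorem θ_rel_chk : relW.all (fun w => eqB (((w.map θl).reverse.map tw).flatten) []) = true := by
  decide +kernel

theorem θ_ne_chk : eqB (tw (θw 0)) [] = false := by decide +kernel

theorem θ_s_chk : eqB (((ws.reverse.map θl).reverse.map tw).flatten) [Ts] = true := by
  decide +kernel

theorem θ_d_chk : eqB (((wd.reverse.map θl).reverse.map tw).flatten) [Td] = true := by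
  decide +kernel

theorem θ_t_chk : eqB (((wt.reverse.map θl).reverse.map tw).flatten) [Ttp] = true := by
  decide +kernel

theorem gen_chk : (List.range 5).all (fun x =>
    eqB ((((gw x).map sdtw).reverse.map tw).flatten) [tabN x]) = true := by decide +kernel

end Cfsg.Agent.Lib.H22.J2Out
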