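import Cfsg.Agent.Lib.H22.J2Out.Chk
import Cfsg.Agent.Lib.H17.OutRigid
import Cfsg.Prelude.Def_KGroupFacts

set_option autoImplicit false
set_option maxRecDepth 100000

/-! # The outer automorphism group of the Hall–Janko group has order 2

For helper17's presented group `J2Pres.Grp`: `s` of order 7 generates a self-centralising Sylow
subgroup, `d` of order 6 normalises it, the involution `t` commutes with `d`, and the three
generate.  helper17's rigidity lemma reduces the automorphisms to the images of `t` among the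
involutions commuting with `d`. -/

namespace Cfsg.Agent.Lib.H22.J2Out

open Cfsg.Agent.Lib.H17.CosetCert Cfsg.Agent.Lib.H17.J2P100 Cfsg.Agent.Lib.H17.J2PGlue
  Cfsg.Agent.Lib.H17.J2Deg100 Cfsg.Agent.Lib.H22.J2Spec

/-- an element of order 7 -/
noncomputable def s : G := el ws

/-- an element of order 6 normalising `s` -/
noncomputable def d : G := el wd

/-- an involution commuting with `d` -/
noncomputable def t : G := el wt

/-- the other involution commuting with `d` -/
noncomputable def tp : G := el wtp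

theorem rep_s : Rep s [Ts] := (rep_el _).single (wordTab_sound _ _ _ s_tab)

theorem rep_d : Rep d [Td] := (rep_el _).single (wordTab_sound _ _ _ d_tab)

theorem rep_t : Rep t [Ttt] := (rep_el _).single (wordTab_sound _ _ _ t_tab)

theorem rep_tp : Rep tp [Ttp] := (rep_el _).single (wordTab_sound _ _ _ tp_tab)

theorem rep_dd : Rep (d * d) [Tdd] := (rep_d.mul rep_d).single (wordTab_sound _ _ _ dd_tab)

theorem orderOf_s : orderOf s = 7 := by
  haveI : Fact (Nat.Prime 7) := ⟨by norm_num⟩
  apply orderOf_eq_prime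
  · exact eq_of_eqB (Rep.pow_replicate rep_s 7) rep_one s_pow7
  · exact ne_of_eqB_false rep_s rep_one s_ne

theorem ds_conj : d * s * d⁻¹ = s ^ 3 := by
  have h : d * s = s * s * s * d :=
    eq_of_eqB (rep_d.mul rep_s) (((rep_s.mul rep_s).mul rep_s).mul rep_d) ds_rel
  rw [h, mul_inv_cancel_right, pow_succ, pow_two]

theorem t_d_comm : t * d = d * t := eq_of_eqB (rep_t.mul rep_d) (rep_d.mul rep_t) td_comm

theorem t_mul_self : t * t = 1 := eq_of_eqB (rep_t.mul rep_t) rep_one t_sq

theorem t_ne_one : t ≠ 1 := ne_of_eqB_false rep_t rep_one t_ne_one_chk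

theorem t_ne_tp : t ≠ tp := ne_of_eqB_false rep_t rep_tp t_ne_tp_chk

theorem t_ne_d3 : t ≠ d ^ 3 := ne_of_eqB_false rep_t (Rep.pow_replicate rep_d 3) t_ne_d3_chk

/-- the centraliser of `s`, with tables -/
theorem cent_s_aux (x : G) (hx : x * s = s * x) :
    ∃ i < 7, x = s ^ i ∧ Rep x [Tspow.getD i 0] := by
  obtain ⟨p, hp, hxp⟩ := cent_cover false rep_s rep_s (fun x h => h) Ts0 Fsl Fsl_ok fix_s Lsl Lsl_ok
    cent_s_chk x hx (fun h => absurd h (by simp))
  have hrep : Rep (el p.2) [p.1] :=
    (rep_el _).single (wordTab_sound _ _ _ (List.all_eq_true.mp Lsl_ok p hp))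
  obtain ⟨i, hi, rfl⟩ := List.mem_map.mp hp
  refine ⟨i, List.mem_range.mp hi, ?_, ?_⟩
  · rw [hxp]
    exact el_flatten_replicate ws i
  · rw [hxp]
    exact hrep

theorem cent_s (x : G) (hx : x * s = s * x) : x ∈ Subgroup.zpowers s := by
  obtain ⟨i, -, rfl, -⟩ := cent_s_aux x hx
  exact Subgroup.pow_mem _ (Subgroup.mem_zpowers s) i

/-! ### generation -/

theorem gens_in (x : ℕ) (hx : x < 5) :
    (((gw x).map sdtw).map el).prod = (PresentedGroup.of (gen x) : G) := by
  have h := List.all_eq_true.mp gen_chk x (List.mem_range.mpr hx)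
  rw [← el_single]
  exact eq_of_eqB (rep_prod _) (rep_el [x]) h

theorem aut_fix (ψ : MulAut G) (h1 : ψ s = s) (h2 : ψ d = d) (h3 : ψ t = t) : ψ = 1 := by
  apply Cfsg.Agent.Lib.H17.OutRigid.aut_eq_one_of_closure _ closure_gens
  rintro g ⟨x, hx, rfl⟩
  rw [← gens_in x hx, map_list_prod]
  congr 1
  rw [List.map_map, List.map_map, List.map_map]
  apply List.map_congr_left
  intro k _
  simp only [Function.comp]
  rcases k with _ | _ | k
  · exact h1
  · exact h2
  · exact h3

/-! ### the outer automorphism -/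

/-- the images of the generators -/
noncomputable def θf (u : Gen) : G := el (θw (idx u))

theorem θf_inv (u : Gen) : θf u * θf u = 1 := by
  have h := List.all_eq_true.mp θ_inv_chk (idx u) (List.mem_range.mpr (idx_lt u))
  exact eq_of_eqB ((rep_el _).mul (rep_el _)) rep_one h

theorem θf_words : ∀ w ∈ relW, ((w.map gen).map θf).prod = 1 := by
  intro w hw
  have h := List.all_eq_true.mp θ_rel_chk w hw
  have e : (w.map gen).map θf = (w.map θl).map el := by
    rw [List.map_map, List.map_map]
    rfl
  rw [e]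
  exact eq_of_eqB (rep_prod _) rep_one h

/-- the endomorphism -/
noncomputable def θhom : G →* G :=
  PresentedGroup.toGroup (f := θf) (lift_rels θf θf_inv θf_words)

theorem θhom_of (u : Gen) : θhom (PresentedGroup.of u) = θf u := PresentedGroup.toGroup.of _

theorem θhom_el (L : List ℕ) : θhom (el L) = ((L.reverse.map θl).map el).prod := by
  show θhom ((L.reverse.map fun x => (PresentedGroup.of (gen x) : G)).prod) = _
  rw [map_list_prod, List.map_map, List.map_map]
  congr 1
  apply List.map_congr_left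
  intro x _
  simp only [Function.comp]
  rw [θhom_of]
  rfl

theorem θhom_inj : Function.Injective θhom := by
  have hs : IsSimpleGroup G := Cfsg.Agent.Lib.H17.J2PSimple.simple
  rcases hs.eq_bot_or_eq_top_of_normal θhom.ker inferInstance with h | h
  · exact (MonoidHom.ker_eq_bot_iff θhom).mp h
  · exfalso
    have hm : (PresentedGroup.of .a : G) ∈ θhom.ker := by
      rw [h]
      exact Subgroup.mem_top _
    have h1 : θf .a = 1 := by
      rw [← θhom_of]
      exact MonoidHom.mem_ker.mp hm
    exact ne_of_eqB_false (rep_el _) rep_one θ_ne_chk h1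

/-- the outer automorphism -/
noncomputable def θ : MulAut G :=
  MulEquiv.ofBijective θhom ⟨θhom_inj, by
    haveI := Cfsg.Agent.Lib.H17.J2Ord.finite_G
    exact Finite.injective_iff_surjective.mp θhom_inj⟩

theorem θ_apply (g : G) : θ g = θhom g := rfl

theorem θ_s : θ s = s := by
  rw [θ_apply]
  show θhom (el ws) = s
  rw [θhom_el]
  exact eq_of_eqB (rep_prod _) rep_s θ_s_chk

theorem θ_d : θ d = d := by
  rw [θ_apply]
  show θhom (el wd) = d
  rw [θhom_el]
  exact eq_of_eqB (rep_prod _) rep_d θ_d_chk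

theorem θ_t : θ t = tp := by
  rw [θ_apply]
  show θhom (el wt) = tp
  rw [θhom_el]
  exact eq_of_eqB (rep_prod _) rep_tp θ_t_chk

theorem θ_not_inner : θ ∉ (MulAut.conj : G →* MulAut G).range := by
  rintro ⟨k, hk⟩
  have h1 : k * s * k⁻¹ = s := by
    have := congrArg (fun α : MulAut G => α s) hk
    simp only [MulAut.conj_apply] at this
    rw [this, θ_s]
  have h2 : k * d * k⁻¹ = d := by
    have := congrArg (fun α : MulAut G => α d) hk
    simp only [MulAut.conj_apply] at this
    rw [this, θ_d]
  have hks : k * s = s * k := by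
    calc k * s = k * s * k⁻¹ * k := by group
      _ = s * k := by rw [h1]
  have hkd : k * d = d * k := by
    calc k * d = k * d * k⁻¹ * k := by group
      _ = d * k := by rw [h2]
  obtain ⟨i, hi, hki, hrep⟩ := cent_s_aux k hks
  have hchk := List.all_eq_true.mp spow_d_chk i (List.mem_range.mpr hi)
  rw [Bool.or_eq_true] at hchk
  have hcomm : eqB (Td :: [Tspow.getD i 0]) ([Tspow.getD i 0] ++ [Td]) = true := by
    have e1 : Rep (k * d) (Td :: [Tspow.getD i 0]) := hrep.mul rep_d
    have e2 : Rep (k * d) ([Tspow.getD i 0] ++ [Td]) := by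
      rw [hkd]
      exact rep_d.mul hrep
    exact eqB_of_rep e1 e2
  have hi0 : i = 0 := by
    rcases hchk with h | h
    · exact Nat.eq_of_beq_eq_true h
    · rw [hcomm] at h
      exact absurd h (by simp)
  subst hi0
  rw [pow_zero] at hki
  subst hki
  have h3 : θ t = t := by
    rw [← hk]
    simp
  rw [θ_t] at h3
  exact t_ne_tp h3.symm

/-! ### the count -/

theorem hex_main : ∀ j ∈ [1], ∀ α : MulAut G, α s = s ^ j → α d = d →
    (α s = s ∧ α t = t) ∨ (α s = θ s ∧ α t = θ t) := by
  intro j hj α hs hd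
  rw [List.mem_singleton] at hj
  subst hj
  rw [pow_one] at hs
  have hcomm : α t * d = d * α t := by
    have h := congrArg α t_d_comm
    rw [map_mul, map_mul, hd] at h
    exact h
  have hinv : α t * α t = 1 := by rw [← map_mul, t_mul_self, map_one]
  obtain ⟨p, hp, hxp⟩ := cent_cover true rep_d rep_dd
    (fun x h => by rw [← mul_assoc, h, mul_assoc, h, mul_assoc])
    Tdd0 Fdl Fdl_ok fix_d Ldl Ldl_ok cent_d_chk (α t) hcomm (fun _ => hinv)
  simp only [Ldl, List.mem_cons, List.not_mem_nil, or_false] at hp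
  rcases hp with rfl | rfl | rfl | rfl
  · exfalso
    apply t_ne_one
    apply α.injective
    rw [hxp, map_one]
    rfl
  · left
    exact ⟨hs, hxp⟩
  · right
    refine ⟨by rw [hs, θ_s], ?_⟩
    rw [hxp, θ_t]
    rfl
  · exfalso
    apply t_ne_d3
    apply α.injective
    rw [hxp, map_pow, hd]
    exact el_flatten_replicate wd 3

theorem hJ : ∀ i, 0 < i → i < 7 → ∃ j ∈ [1], ∃ l, (i * 3 ^ l) % 7 = j % 7 := by
  intro i h0 h7
  interval_cases i
  · exact ⟨1, by simp, 0, by norm_num⟩
  · exact ⟨1, by simp, 4, by norm_num⟩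
  · exact ⟨1, by simp, 5, by norm_num⟩
  · exact ⟨1, by simp, 2, by norm_num⟩
  · exact ⟨1, by simp, 1, by norm_num⟩
  · exact ⟨1, by simp, 3, by norm_num⟩

/-- **The outer automorphism group of the presented Hall–Janko group has order 2.** -/
theorem card_out_G : Nat.card (Cfsg.Out G) = 2 := by
  haveI := Cfsg.Agent.Lib.H17.J2Ord.finite_G
  exact Cfsg.Agent.Lib.H17.OutRigid.card_out_eq_two (p := 7) (a := 3) (c := 4) (by norm_num)
    (by rw [Cfsg.Agent.Lib.H17.J2Ord.card_eq]; norm_num) s d t orderOf_s ds_conj cent_s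
    (by norm_num) [1] hJ aut_fix θ θ_d θ_not_inner hex_main

/-- the same for `J2Pres.Grp` -/
theorem card_out : Nat.card (Cfsg.Out Cfsg.Agent.Lib.H17.J2Pres.Grp) = 2 := card_out_G

/-! ### transport along isomorphisms -/

theorem map_inn {A B : Type*} [Group A] [Group B] (e : A ≃* B) :
    (Cfsg.Inn A).map (MulAut.congr e).toMonoidHom = Cfsg.Inn B := by
  ext α
  constructor
  · rintro ⟨_, ⟨g, rfl⟩, rfl⟩
    refine ⟨e g, ?_⟩
    ext h
    simp [MulAut.congr]
  · rintro ⟨h, rfl⟩
    refine ⟨MulAut.conj (e.symm h), ⟨e.symm h, rfl⟩, ?_⟩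
    ext x
    simp [MulAut.congr]

/-- isomorphic groups have outer automorphism groups of the same order -/
theorem card_out_congr {A B : Type*} [Group A] [Group B] (e : A ≃* B) :
    Nat.card (Cfsg.Out A) = Nat.card (Cfsg.Out B) :=
  Nat.card_congr (QuotientGroup.congr (Cfsg.Inn A) (Cfsg.Inn B) (MulAut.congr e)
    (map_inn e)).toEquiv

end Cfsg.Agent.Lib.H22.J2Out
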